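import Cfsg.Agent.H601.K4.Defs

/-!
# S4947 / S4547, sporadic layer: the shape of the rows (helper695)

* `Three S` : for some prime `p` dividing `|S|` exactly once there are three different irreducible characters of
  odd degree divisible by `p`.  (Then `H601.K4.Odd5 S`, see `H695/K4/Crit.lean`: they vanish at the elements of
  order `p`, and the sum of all odd-degree characters is even there.)
* `ThreeSig S` : the same with characters fixed by the cubing automorphism (rational ones, or with values in a
  field of odd conductor, are).  Then `H601.K4.Good5 S` if `S` is one of the groups with `TwoC S`.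
* `AutGood3 S` : three good characters invariant under all automorphisms (for `Out S ≠ 1`).
-/

set_option autoImplicit false

namespace Cfsg.Agent.H695.K4

open Cfsg Cfsg.Agent.H601.K4

universe u v

/-- Three different irreducible characters of odd degree divisible by a prime which divides `|S|` exactly once. -/
def Three (S : Type u) [Group S] : Prop :=
  ∃ p : ℕ, p.Prime ∧ ¬ p ^ 2 ∣ Nat.card S ∧
    ∃ χ : Fin 3 → S → ℂ, Function.Injective χ ∧ ∀ i, OddIrr (χ i) ∧ p ∣ charDegree (χ i)

/-- The same with `σ`-fixed characters. -/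
def ThreeSig (S : Type u) [Group S] : Prop :=
  ∃ p : ℕ, p.Prime ∧ ¬ p ^ 2 ∣ Nat.card S ∧
    ∃ χ : Fin 3 → S → ℂ, Function.Injective χ ∧ ∀ i, OddIrr (χ i) ∧ p ∣ charDegree (χ i) ∧ SigFix (χ i)

/-- Three good characters invariant under all automorphisms. -/
def AutGood3 (S : Type u) [Group S] : Prop :=
  ∃ χ : Fin 3 → S → ℂ, Function.Injective χ ∧ ∀ i, Good (χ i) ∧ ∀ (φ : MulAut S) (x : S), χ i (φ x) = χ i x

section

variable {S : Type u} [Group S]

theorem ThreeSig.three (h : ThreeSig S) : Three S := by
  obtain ⟨p, h1, h2, χ, h3, h4⟩ := h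
  exact ⟨p, h1, h2, χ, h3, fun i => ⟨(h4 i).1, (h4 i).2.1⟩⟩

theorem AutGood3.autInv3 (h : AutGood3 S) : AutInv3 S := by
  obtain ⟨χ, h1, h2⟩ := h
  exact ⟨χ, h1, fun i => ⟨(h2 i).1.odd, (h2 i).2⟩⟩

end

end Cfsg.Agent.H695.K4
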